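import Groth.Agent.ResProp.EF.K860.LocHM
import Groth.Agent.ResProp.EF.K761.T2

/-!
# T4, final form: finitely many semi-invariants of a finite Hopf module, no hypotheses besides the FIN datum
-/

set_option autoImplicit false

universe u

open TensorProduct MvPolynomial

namespace Groth.Agent.ResProp.EF.K860

open Groth.Agent.ResProp.EF.K83

variable {R : Type u} [CommRing R] {A : Type u} [CommRing A] [HopfAlgebra R A]
  {D : Type u} [CommRing D] [Algebra R D] {c : CoAlg R A D}

/-- the coinvariants of the localisation are contained in the span of finitely many of them over `B` -/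
theorem exists_finite_coinv {s : D} (L : GalLoc c s) (N : Type u) [AddCommGroup N] [Module R N] [Module D N]
    [IsScalarTower R D N] [Module.Finite D N] (co : HopfRep.Comod R A N) (P : LocHM L N co) :
    ∃ Z : Set P.M, Z.Finite ∧ (∀ z ∈ Z, P.com.coact z = z ⊗ₜ (1 : A)) ∧
      ∀ z : P.M, P.com.coact z = z ⊗ₜ (1 : A) → z ∈ Submodule.span (algebraMap L.B L.Ds).range Z := by
  classical
  let _ : Module L.B P.M := Module.compHom P.M (algebraMap L.B L.Ds)
  have : IsScalarTower L.B L.Ds P.M := ⟨fun b d m => by
    change (b • d) • m = algebraMap L.B L.Ds b • (d • m)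
    rw [Algebra.smul_def, mul_smul]⟩
  have : IsScalarTower R L.B P.M := ⟨fun r b m => by
    change algebraMap L.B L.Ds (r • b) • m = r • (algebraMap L.B L.Ds b • m)
    rw [Algebra.smul_def, map_mul, mul_smul, ← IsScalarTower.algebraMap_apply, algebraMap_smul]⟩
  have : Module.Finite L.Ds P.M := by
    have hb : IsBaseChange L.Ds P.f := (isLocalizedModule_iff_isBaseChange (Submonoid.powers s) L.Ds P.f).mp inferInstance
    exact Module.Finite.of_surjective hb.equiv.toLinearMap hb.equiv.surjective
  have hfin := K761.finite_coinv L P.M P.com P.hM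
  obtain ⟨S, hS⟩ := hfin.fg_top
  refine ⟨Subtype.val '' (S : Set (K761.coinv L P.M P.com P.hM)), S.finite_toSet.image _, ?_, ?_⟩
  · rintro _ ⟨z, _, rfl⟩
    exact z.2
  · intro z hz
    have h1 : (⟨z, hz⟩ : K761.coinv L P.M P.com P.hM) ∈ Submodule.span L.B (S : Set _) := by rw [hS]; trivial
    have h2 : ∀ w : K761.coinv L P.M P.com P.hM, w ∈ Submodule.span L.B (S : Set _) →
        (w : P.M) ∈ Submodule.span (algebraMap L.B L.Ds).range
          (Subtype.val '' (S : Set (K761.coinv L P.M P.com P.hM))) := by
      intro w hw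
      induction hw using Submodule.span_induction with
      | mem x hx => exact Submodule.subset_span ⟨x, hx, rfl⟩
      | zero => exact Submodule.zero_mem _
      | add x y _ _ hx hy => exact Submodule.add_mem _ hx hy
      | smul b x _ hx =>
        exact Submodule.smul_mem _ (⟨algebraMap L.B L.Ds b, ⟨b, rfl⟩⟩ : (algebraMap L.B L.Ds).range) hx
    exact h2 _ h1

/-- **T4, final form.** -/
theorem T4c (F : FinDatum R A D c) (N : Type u) [AddCommGroup N] [Module R N] [Module D N] [IsScalarTower R D N]
    [Module.Finite D N] (co : HopfRep.Comod R A N) (hN : IsHopfMod c N co) :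
    ∃ (t : ℕ) (n : Fin t → ℕ) (y : Fin t → N), (∀ l, co.coact (y l) = y l ⊗ₜ (F.χ ^ n l)) ∧
      ∀ (i : Fin (F.r + 1)) (m : ℕ) (y' : N), co.coact y' = y' ⊗ₜ (F.χ ^ m) →
        ∃ (k : ℕ) (d : Fin t → ℕ) (Q : Fin t → MvPolynomial (Fin (F.r + 1)) R),
          (∀ l, d l + n l = m + k) ∧ (∀ l, (Q l).IsHomogeneous (d l)) ∧
          F.s i ^ k • y' = ∑ l, aeval F.s (Q l) • y l :=
  T4b F N co hN (fun i => locHM (F.loc i) N co hN) (fun i => exists_finite_coinv (F.loc i) N co _)

end Groth.Agent.ResProp.EF.K860
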