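import Groth.Agent.ResProp.EF.K860.T4c
import Groth.Agent.ResProp.EF.K416.Tw
import Groth.Agent.ResProp.EF.Fin669.Adapt
import Groth.Agent.ResProp.EF.Fin669.Adapt2

/-!
# Degree zero: `H^0(N(n))` is the module of semi-invariants of weight `χ ^ n`; `FinGen` and `NoTors`
-/

set_option autoImplicit false

universe u

open TensorProduct

noncomputable section

namespace Groth.Agent.ResProp.EF.K860

open K416 (HM Vf mk_surj mk_eq_zero_iff x_mk Zmap_coe)
open K83 (CoAlg IsHopfMod FinDatum)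
open Fin669 (FinGen NoTors sx finGen_of_homog noTors_sx finGen_of_surjective noTors_of_injective)

variable {R : Type u} [CommRing R] {A : Type u} [CommRing A] [HopfAlgebra R A]
  {D : Type u} [CommRing D] [Algebra R D] {c : CoAlg R A D} {χ : A} (hχ : IsGroupLikeElem R χ)

variable (χ) in
/-- the semi-invariants of weight `χ ^ n` -/
def semi (N : HM c) (n : ℕ) : Submodule R N.V := HopfRep.eigenspace R A N.V (χ ^ n)

theorem mem_semi (N : HM c) (n : ℕ) (v : N.V) : v ∈ semi χ N n ↔ N.co.coact v = v ⊗ₜ[R] (χ ^ n) := Iff.rfl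

theorem semi_smul (N : HM c) {s : D} (hs : c.ρ s = s ⊗ₜ[R] χ) (n : ℕ) (y : N.V) (hy : y ∈ semi χ N n) :
    s • y ∈ semi χ N (n + 1) := by
  rw [mem_semi] at hy ⊢
  rw [coact_smul N.hm hs, hy, act_tmul, pow_succ']

theorem tw_coact_iff (N : HM c) (n : ℕ) (v : N.V) :
    (N.tw hχ n).co.coact v = (show (N.tw hχ n).V from v) ⊗ₜ[R] (1 : A) ↔ N.co.coact v = v ⊗ₜ[R] (χ ^ n) := by
  have e : χ ^ n * HopfAlgebra.antipode R χ ^ n = 1 := by rw [← mul_pow, hχ.mul_antipode_cancel, one_pow]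
  have e' : HopfAlgebra.antipode R χ ^ n * χ ^ n = 1 := by rw [mul_comm, e]
  constructor
  · intro h
    have h1 : (LinearMap.mulRight R (HopfAlgebra.antipode R χ ^ n)).lTensor N.V (N.co.coact v) = v ⊗ₜ[R] (1 : A) := h
    have h2 := congrArg ((LinearMap.mulRight R (χ ^ n)).lTensor N.V) h1
    rw [K416.lTensor_mulRight_mulRight, e', K416.lTensor_mulRight_one] at h2
    rw [h2]
    simp
  · intro h
    change (LinearMap.mulRight R (HopfAlgebra.antipode R χ ^ n)).lTensor N.V (N.co.coact v) = v ⊗ₜ[R] (1 : A)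
    rw [h]
    simp [e]

theorem mem_cocycles_zero (N : HM c) (n : ℕ) (v : N.V) :
    (show (Hoch.cochain R A (N.tw hχ n).V 0 : Type u) from v) ∈ Hoch.cocycles R A (N.tw hχ n).V 0 ↔ v ∈ semi χ N n := by
  rw [mem_semi, ← tw_coact_iff hχ]
  exact sub_eq_zero

/-- semi-invariants as degree zero cocycles -/
def toZ (N : HM c) (n : ℕ) : semi χ N n →ₗ[R] Hoch.cocycles R A (N.tw hχ n).V 0 where
  toFun v := ⟨(v : N.V), (mem_cocycles_zero hχ N n v).mpr v.2⟩
  map_add' _ _ := rfl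
  map_smul' _ _ := rfl

/-- semi-invariants as degree zero classes -/
def E0 (N : HM c) (n : ℕ) : semi χ N n →ₗ[R] Vf hχ N 0 n := (Hoch.H.mk R A (N.tw hχ n).V 0) ∘ₗ toZ hχ N n

theorem E0_surjective (N : HM c) (n : ℕ) : Function.Surjective (E0 hχ N n) := by
  intro v
  obtain ⟨z, rfl⟩ := mk_surj R A 0 v
  exact ⟨⟨(z : (Hoch.cochain R A (N.tw hχ n).V 0 : Type u)), (mem_cocycles_zero hχ N n _).mp z.2⟩, rfl⟩

theorem E0_injective (N : HM c) (n : ℕ) : Function.Injective (E0 hχ N n) := by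
  refine (injective_iff_map_eq_zero _).mpr fun v hv => ?_
  have h1 := (mk_eq_zero_iff R A 0 _).mp hv
  exact Subtype.ext h1

/-- degree zero classes as semi-invariants -/
def E0inv (N : HM c) (n : ℕ) : Vf hχ N 0 n →ₗ[R] semi χ N n :=
  (LinearEquiv.ofBijective (E0 hχ N n) ⟨E0_injective hχ N n, E0_surjective hχ N n⟩).symm.toLinearMap

variable {r : ℕ} {s : Fin r → D} (hs : ∀ i, c.ρ (s i) = s i ⊗ₜ[R] χ)

theorem E0_sx (N : HM c) (i : Fin r) (n : ℕ) (v : semi χ N n) :
    E0 hχ N (n + 1) (sx s (semi χ N) (fun i n y hy => semi_smul N (hs i) n y hy) i n v) =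
      K416.x hχ hs N i 0 n (E0 hχ N n v) := rfl

theorem E0inv_x (N : HM c) (i : Fin r) (n : ℕ) (v : Vf hχ N 0 n) :
    E0inv hχ N (n + 1) (K416.x hχ hs N i 0 n v) =
      sx s (semi χ N) (fun i n y hy => semi_smul N (hs i) n y hy) i n (E0inv hχ N n v) := by
  obtain ⟨w, rfl⟩ := E0_surjective hχ N n v
  rw [← E0_sx hχ hs]
  have h : ∀ (n : ℕ) (w : semi χ N n), E0inv hχ N n (E0 hχ N n w) = w := fun n w =>
    LinearEquiv.ofBijective_symm_apply_apply (E0 hχ N n) (h := ⟨E0_injective hχ N n, E0_surjective hχ N n⟩) w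
  rw [h, h]

/-- **no torsion** in degree zero -/
theorem noTors (hsp : Ideal.span (Set.range s) = ⊤) (N : HM c) :
    NoTors (V := fun n => Vf hχ N 0 n) (fun i => K416.x hχ hs N i 0) :=
  noTors_of_injective (fun n => E0inv hχ N n) (fun i n v => E0inv_x hχ hs N i n v)
    (fun n => LinearEquiv.injective _) (noTors_sx s (semi χ N) _ hsp)

/-- **finite generation up to torsion** in degree zero -/
theorem finGen (F : FinDatum R A D c) (N : HM c) [Module.Finite D N.V] :
    FinGen (V := fun n => Vf F.hχ N 0 n) (fun i => K416.x F.hχ F.hs N i 0) :=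
  finGen_of_surjective (fun n => E0 F.hχ N n) (fun i n v => E0_sx F.hχ F.hs N i n v) (E0_surjective F.hχ N)
    (finGen_of_homog F.s (semi F.χ N) (fun i n y hy => semi_smul N (F.hs i) n y hy) (T4c F N.V N.co N.hm))

end Groth.Agent.ResProp.EF.K860
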