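import Groth.Agent.ResProp.EF.K860.T4b

/-!
# The localisation of a Hopf module at a semi-invariant is a Hopf module (existence of `LocHM`)
-/

set_option autoImplicit false

universe u

open TensorProduct

namespace Groth.Agent.ResProp.EF.K860

open Groth.Agent.ResProp.EF.K83

section Gen

variable {R : Type u} [CommRing R] {A : Type u} [CommRing A] [HopfAlgebra R A]
  {E : Type u} [CommRing E] [Algebra R E] {M : Type u} [AddCommGroup M] [Module R M] [Module E M] [IsScalarTower R E M]

variable (M) in
/-- the action of `E ⊗ A` on `M ⊗ A` -/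
noncomputable def act2 : E ⊗[R] A →ₗ[R] M ⊗[R] A →ₗ[R] M ⊗[R] A :=
  TensorProduct.map₂ (Algebra.lsmul R R M).toLinearMap (LinearMap.mul R A)

@[simp] theorem act2_tmul (e : E) (a : A) (m : M) (b : A) :
    act2 M (e ⊗ₜ[R] a) (m ⊗ₜ[R] b) = (e • m) ⊗ₜ[R] (a * b) := rfl

theorem act2_mul (x y : E ⊗[R] A) (z : M ⊗[R] A) : act2 M (x * y) z = act2 M x (act2 M y z) := by
  induction x with
  | zero => simp
  | add x x' h h' => simp only [add_mul, map_add, LinearMap.add_apply, h, h']
  | tmul e a =>
    induction y with
    | zero => simp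
    | add y y' h h' => simp only [mul_add, map_add, LinearMap.add_apply, h, h']
    | tmul e' a' =>
      induction z with
      | zero => simp
      | add z z' h h' => simp only [map_add, h, h']
      | tmul m b => simp [mul_smul, mul_assoc]

variable (M) in
/-- the action of `E ⊗ (A ⊗ A)` on `M ⊗ (A ⊗ A)` -/
noncomputable def act3 : E ⊗[R] (A ⊗[R] A) →ₗ[R] M ⊗[R] (A ⊗[R] A) →ₗ[R] M ⊗[R] (A ⊗[R] A) :=
  TensorProduct.map₂ (Algebra.lsmul R R M).toLinearMap (LinearMap.mul R (A ⊗[R] A))

@[simp] theorem act3_tmul (e : E) (a : A ⊗[R] A) (m : M) (b : A ⊗[R] A) :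
    act3 M (e ⊗ₜ[R] a) (m ⊗ₜ[R] b) = (e • m) ⊗ₜ[R] (a * b) := rfl

theorem act3_assoc (u : E ⊗[R] A) (a : A) (v : M ⊗[R] A) (b : A) :
    TensorProduct.assoc R M A A (act2 M u v ⊗ₜ (a * b)) =
      act3 M (TensorProduct.assoc R E A A (u ⊗ₜ a)) (TensorProduct.assoc R M A A (v ⊗ₜ b)) := by
  induction u with
  | zero => simp
  | add x x' h h' => simp only [map_add, LinearMap.add_apply, TensorProduct.add_tmul, h, h']
  | tmul e a' =>
    induction v with
    | zero => simp
    | add y y' h h' => simp only [map_add, TensorProduct.add_tmul, h, h']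
    | tmul m b' => simp

/-- first coassociativity computation -/
theorem assoc_act2 (rho : E →ₗ[R] E ⊗[R] A) (co : M →ₗ[R] M ⊗[R] A)
    (h : ∀ e m, co (e • m) = act2 M (rho e) (co m)) (x : E ⊗[R] A) (y : M ⊗[R] A) :
    TensorProduct.assoc R M A A (co.rTensor A (act2 M x y)) =
      act3 M (TensorProduct.assoc R E A A (rho.rTensor A x)) (TensorProduct.assoc R M A A (co.rTensor A y)) := by
  induction x with
  | zero => simp
  | add x x' h h' => simp only [map_add, LinearMap.add_apply, h, h']
  | tmul e a =>
    induction y with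
    | zero => simp
    | add y y' h h' => simp only [map_add, h, h']
    | tmul m b =>
      rw [act2_tmul, LinearMap.rTensor_tmul, LinearMap.rTensor_tmul, LinearMap.rTensor_tmul, h, act3_assoc]

/-- second coassociativity computation -/
theorem comul_act2 (x : E ⊗[R] A) (y : M ⊗[R] A) :
    (Coalgebra.comul (R := R) (A := A)).lTensor M (act2 M x y) =
      act3 M ((Coalgebra.comul (R := R) (A := A)).lTensor E x) ((Coalgebra.comul (R := R) (A := A)).lTensor M y) := by
  induction x with
  | zero => simp
  | add x x' h h' => simp only [map_add, LinearMap.add_apply, h, h']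
  | tmul e a =>
    induction y with
    | zero => simp
    | add y y' h h' => simp only [map_add, h, h']
    | tmul m b =>
      rw [act2_tmul, LinearMap.lTensor_tmul, LinearMap.lTensor_tmul, LinearMap.lTensor_tmul, act3_tmul,
        Bialgebra.comul_mul]

theorem counit_act2 (x : E ⊗[R] A) (y : M ⊗[R] A) :
    (Coalgebra.counit (R := R) (A := A)).lTensor M (act2 M x y) =
      TensorProduct.map₂ (Algebra.lsmul R R M).toLinearMap (LinearMap.mul R R)
        ((Coalgebra.counit (R := R) (A := A)).lTensor E x) ((Coalgebra.counit (R := R) (A := A)).lTensor M y) := by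
  induction x with
  | zero => simp
  | add x x' h h' => simp only [map_add, LinearMap.add_apply, h, h']
  | tmul e a =>
    induction y with
    | zero => simp
    | add y y' h h' => simp only [map_add, h, h']
    | tmul m b =>
      rw [act2_tmul, LinearMap.lTensor_tmul, LinearMap.lTensor_tmul, LinearMap.lTensor_tmul,
        TensorProduct.map₂_apply_tmul, Bialgebra.counit_mul]
      rfl

end Gen

section Loc

variable {R : Type u} [CommRing R] {A : Type u} [CommRing A] [HopfAlgebra R A]
  {D : Type u} [CommRing D] [Algebra R D] {c : CoAlg R A D} {s : D} (L : GalLoc c s)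
  (N : Type u) [AddCommGroup N] [Module R N] [Module D N] [IsScalarTower R D N] (co : HopfRep.Comod R A N)

/-- `n ↦ 1 ⊗ n` -/
noncomputable abbrev fL : N →ₗ[D] L.Ds ⊗[D] N := TensorProduct.mk D L.Ds N 1

/-- `N ⊗ A → M ⊗ A` -/
noncomputable abbrev fr : N ⊗[R] A →ₗ[R] (L.Ds ⊗[D] N) ⊗[R] A := ((fL L N).restrictScalars R).rTensor A

theorem act2_algebraMap (x : D ⊗[R] A) (y : N ⊗[R] A) :
    fr L N (act2 N x y) = act2 (L.Ds ⊗[D] N) (Algebra.TensorProduct.map (IsScalarTower.toAlgHom R D L.Ds)
      (AlgHom.id R A) x) (fr L N y) := by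
  induction x with
  | zero => simp
  | add x x' h h' => simp only [map_add, LinearMap.add_apply, h, h']
  | tmul e a =>
    induction y with
    | zero => simp
    | add y y' h h' => simp only [map_add, h, h']
    | tmul m b =>
      simp only [act2_tmul, LinearMap.rTensor_tmul, LinearMap.coe_restrictScalars, mk_apply,
        Algebra.TensorProduct.map_tmul, IsScalarTower.coe_toAlgHom', AlgHom.coe_id, id_eq, algebraMap_smul, tmul_smul]

/-- the coaction as an additive map -/
noncomputable def coactAdd (hN : IsHopfMod c N co) : L.Ds ⊗[D] N →+ (L.Ds ⊗[D] N) ⊗[R] A :=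
  TensorProduct.liftAddHom
    { toFun := fun d =>
        { toFun := fun n => act2 (L.Ds ⊗[D] N) (L.cs.ρ d) (fr L N (co.coact n))
          map_zero' := by simp
          map_add' := fun x y => by simp only [map_add] }
      map_zero' := by ext n; simp
      map_add' := fun x y => by ext n; simp only [map_add, LinearMap.add_apply, AddMonoidHom.coe_mk, ZeroHom.coe_mk,
        AddMonoidHom.add_apply] }
    (fun x d n => by
      change act2 (L.Ds ⊗[D] N) (L.cs.ρ (x • d)) (fr L N (co.coact n)) =
        act2 (L.Ds ⊗[D] N) (L.cs.ρ d) (fr L N (co.coact (x • n)))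
      rw [hN.smul, Algebra.smul_def, mul_comm, map_mul, act2_mul, L.compat]
      congr 1
      exact (act2_algebraMap L N (c.ρ x) (co.coact n)).symm)

theorem coactAdd_tmul (hN : IsHopfMod c N co) (d : L.Ds) (n : N) :
    coactAdd L N co hN (d ⊗ₜ n) = act2 (L.Ds ⊗[D] N) (L.cs.ρ d) (fr L N (co.coact n)) := rfl

theorem coactAdd_smul (hN : IsHopfMod c N co) (d : L.Ds) (z : L.Ds ⊗[D] N) :
    coactAdd L N co hN (d • z) = act2 (L.Ds ⊗[D] N) (L.cs.ρ d) (coactAdd L N co hN z) := by
  induction z with
  | zero => simp
  | add x y hx hy => simp only [smul_add, map_add, hx, hy]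
  | tmul e n =>
    rw [TensorProduct.smul_tmul', smul_eq_mul, coactAdd_tmul, coactAdd_tmul, map_mul, act2_mul]

/-- the coaction -/
noncomputable def coactL (hN : IsHopfMod c N co) : L.Ds ⊗[D] N →ₗ[R] (L.Ds ⊗[D] N) ⊗[R] A where
  toFun := coactAdd L N co hN
  map_add' := map_add _
  map_smul' r z := by
    rw [← algebraMap_smul L.Ds r z, coactAdd_smul, AlgHom.commutes, RingHom.id_apply]
    generalize coactAdd L N co hN z = w
    rw [Algebra.TensorProduct.algebraMap_apply]
    induction w with
    | zero => simp
    | add x y hx hy => simp only [map_add, smul_add, hx, hy]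
    | tmul m a => rw [act2_tmul, one_mul, algebraMap_smul, TensorProduct.smul_tmul']

theorem coactL_tmul (hN : IsHopfMod c N co) (d : L.Ds) (n : N) :
    coactL L N co hN (d ⊗ₜ n) = act2 (L.Ds ⊗[D] N) (L.cs.ρ d) (fr L N (co.coact n)) := rfl

theorem coactL_smul (hN : IsHopfMod c N co) (d : L.Ds) (z : L.Ds ⊗[D] N) :
    coactL L N co hN (d • z) = act2 (L.Ds ⊗[D] N) (L.cs.ρ d) (coactL L N co hN z) :=
  coactAdd_smul L N co hN d z

theorem coactL_f (hN : IsHopfMod c N co) (n : N) : coactL L N co hN (fL L N n) = fr L N (co.coact n) := by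
  rw [mk_apply, coactL_tmul, map_one]
  generalize fr L N (co.coact n) = w
  change act2 (L.Ds ⊗[D] N) ((1 : L.Ds) ⊗ₜ[R] (1 : A)) w = w
  induction w with
  | zero => simp
  | add x y hx hy => simp only [map_add, hx, hy]
  | tmul m a => rw [act2_tmul, one_smul, one_mul]

/-- the localised comodule -/
noncomputable def comL (hN : IsHopfMod c N co) : HopfRep.Comod R A (L.Ds ⊗[D] N) where
  coact := coactL L N co hN
  coassoc := by
    refine LinearMap.ext fun z => ?_
    change TensorProduct.assoc R (L.Ds ⊗[D] N) A A ((coactL L N co hN).rTensor A (coactL L N co hN z)) =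
      (Coalgebra.comul (R := R) (A := A)).lTensor (L.Ds ⊗[D] N) (coactL L N co hN z)
    induction z with
    | zero => simp
    | add x y hx hy => simp only [map_add, hx, hy]
    | tmul d n =>
      have e1 : d ⊗ₜ[D] n = d • fL L N n := by
        rw [mk_apply, TensorProduct.smul_tmul', smul_eq_mul, mul_one]
      rw [e1, coactL_smul, assoc_act2 L.cs.ρ.toLinearMap _ (coactL_smul L N co hN), comul_act2]
      have e2 := L.cs.coassoc d
      have e3 : TensorProduct.assoc R (L.Ds ⊗[D] N) A A ((coactL L N co hN).rTensor A (coactL L N co hN (fL L N n))) =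
          (Coalgebra.comul (R := R) (A := A)).lTensor (L.Ds ⊗[D] N) (coactL L N co hN (fL L N n)) := by
        rw [coactL_f]
        have h1 : ∀ w : N ⊗[R] A, (coactL L N co hN).rTensor A (fr L N w) =
            (fr L N).rTensor A (co.coact.rTensor A w) := by
          intro w
          induction w with
          | zero => simp
          | add x y hx hy => simp only [map_add, hx, hy]
          | tmul m a =>
            rw [LinearMap.rTensor_tmul, LinearMap.rTensor_tmul, LinearMap.rTensor_tmul, LinearMap.rTensor_tmul]
            congr 1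
            exact coactL_f L N co hN m
        have h2 : ∀ w : (N ⊗[R] A) ⊗[R] A, TensorProduct.assoc R (L.Ds ⊗[D] N) A A ((fr L N).rTensor A w) =
            ((fL L N).restrictScalars R).rTensor (A ⊗[R] A) (TensorProduct.assoc R N A A w) := by
          intro w
          induction w with
          | zero => simp
          | add x y hx hy => simp only [map_add, hx, hy]
          | tmul v a =>
            induction v with
            | zero => simp
            | add x y hx hy => simp only [map_add, TensorProduct.add_tmul, hx, hy]
            | tmul m b => simp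
        have h3 : ∀ w : N ⊗[R] A, (Coalgebra.comul (R := R) (A := A)).lTensor (L.Ds ⊗[D] N) (fr L N w) =
            ((fL L N).restrictScalars R).rTensor (A ⊗[R] A) ((Coalgebra.comul (R := R) (A := A)).lTensor N w) := by
          intro w
          induction w with
          | zero => simp
          | add x y hx hy => simp only [map_add, hx, hy]
          | tmul m b => simp
        rw [h1, h2, h3]
        congr 1
        exact LinearMap.congr_fun co.coassoc n
      rw [e3]
      congr 1
      exact congrArg _ e2
  counit_comp := by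
    refine LinearMap.ext fun z => ?_
    change (Coalgebra.counit (R := R) (A := A)).lTensor (L.Ds ⊗[D] N) (coactL L N co hN z) = z ⊗ₜ (1 : R)
    induction z with
    | zero => simp
    | add x y hx hy => simp only [map_add, TensorProduct.add_tmul, hx, hy]
    | tmul d n =>
      have e1 : d ⊗ₜ[D] n = d • fL L N n := by
        rw [mk_apply, TensorProduct.smul_tmul', smul_eq_mul, mul_one]
      rw [e1, coactL_smul, counit_act2, L.cs.counit]
      have e3 : (Coalgebra.counit (R := R) (A := A)).lTensor (L.Ds ⊗[D] N) (coactL L N co hN (fL L N n)) =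
          fL L N n ⊗ₜ (1 : R) := by
        rw [coactL_f]
        have h3 : ∀ w : N ⊗[R] A, (Coalgebra.counit (R := R) (A := A)).lTensor (L.Ds ⊗[D] N) (fr L N w) =
            ((fL L N).restrictScalars R).rTensor R ((Coalgebra.counit (R := R) (A := A)).lTensor N w) := by
          intro w
          induction w with
          | zero => simp
          | add x y hx hy => simp only [map_add, hx, hy]
          | tmul m b => simp
        rw [h3]
        have := LinearMap.congr_fun co.counit_comp n
        change (Coalgebra.counit (R := R) (A := A)).lTensor N (co.coact n) = n ⊗ₜ (1 : R) at this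
        rw [this]
        rfl
      rw [e3, TensorProduct.map₂_apply_tmul]
      simp

/-- **the localisation of a Hopf module** -/
noncomputable def locHM (hN : IsHopfMod c N co) : LocHM L N co :=
  letI : IsLocalizedModule (Submonoid.powers s) (fL L N) :=
    (isLocalizedModule_iff_isBaseChange (Submonoid.powers s) L.Ds _).mpr (TensorProduct.isBaseChange D N L.Ds)
  { M := L.Ds ⊗[D] N
    f := fL L N
    com := comL L N co hN
    hM := ⟨fun d z => coactL_smul L N co hN d z⟩
    colin := fun x => coactL_f L N co hN x }

end Loc

end Groth.Agent.ResProp.EF.K860
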