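import Mathlib.RingTheory.MvPolynomial.Homogeneous
import Mathlib.RingTheory.Localization.Away.Basic
import Mathlib.Algebra.Module.LocalizedModule.Basic
import Mathlib.RingTheory.Finiteness.Basic

/-!
# T4 (FIN): finitely many semi-invariants generate after localisation

`D` an `R`-algebra, `N` a `D`-module, `V n ⊆ N` (`n : ℤ`) the semi-invariants of weight `n`, `s i ∈ D` with
`s i • V n ⊆ V (n + 1)`.  If for every `i` the invariants `{y / s_i ^ b : y ∈ V b}` of the localisation are contained in the span of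
finitely many of them over `R[s_j / s_i : j]`, there are finitely many semi-invariants `y_l ∈ V (n_l)` such that every
semi-invariant `y` satisfies `s_i ^ k y = ∑ P_l(s) y_l` with `P_l` homogeneous of degree `m + k - n_l`.
-/

set_option autoImplicit false

open MvPolynomial

namespace Groth.Agent.ResProp.EF.K860

section One

variable {R D D' N N' ι : Type*} [CommRing R] [CommRing D] [Algebra R D] [CommRing D'] [Algebra R D'] [Algebra D D']
  [IsScalarTower R D D'] [AddCommGroup N] [Module R N] [Module D N] [IsScalarTower R D N]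
  [AddCommGroup N'] [Module D N'] [Module D' N'] [IsScalarTower D D' N']

/-- an element of `R[s_j / s_i]` becomes a homogeneous polynomial in the `s_j` after multiplication with a power of `s_i` -/
theorem exists_homog (s : ι → D) (i : ι) (u : D') (hu : u * algebraMap D D' (s i) = 1) (b : D')
    (hb : b ∈ Algebra.adjoin R (Set.range fun j => algebraMap D D' (s j) * u)) :
    ∃ (e : ℕ) (P : MvPolynomial ι R), P.IsHomogeneous e ∧
      algebraMap D D' (s i) ^ e * b = algebraMap D D' (aeval s P) := by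
  induction hb using Algebra.adjoin_induction with
  | mem x hx =>
    obtain ⟨j, rfl⟩ := hx
    refine ⟨1, X j, isHomogeneous_X _ _, ?_⟩
    rw [aeval_X, pow_one]
    calc _ = algebraMap D D' (s j) * (u * algebraMap D D' (s i)) := by ring
      _ = _ := by rw [hu, mul_one]
  | algebraMap r =>
    refine ⟨0, C r, isHomogeneous_C _ _, ?_⟩
    rw [pow_zero, one_mul, aeval_C, ← IsScalarTower.algebraMap_apply]
  | add x y _ _ hx hy =>
    obtain ⟨e, P, hP, h1⟩ := hx
    obtain ⟨e', P', hP', h2⟩ := hy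
    refine ⟨e + e', P * X i ^ e' + P' * X i ^ e, ?_, ?_⟩
    · have k1 : (P * X i ^ e').IsHomogeneous (e + e') := hP.mul (by simpa using (isHomogeneous_X R i).pow e')
      have k2 : (P' * X i ^ e).IsHomogeneous (e + e') := by
        have := hP'.mul (show (X i ^ e : MvPolynomial ι R).IsHomogeneous e by simpa using (isHomogeneous_X R i).pow e)
        rwa [Nat.add_comm] at this
      exact k1.add k2
    · simp only [map_add, map_mul, map_pow, aeval_X, ← h1, ← h2]
      ring
  | mul x y _ _ hx hy =>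
    obtain ⟨e, P, hP, h1⟩ := hx
    obtain ⟨e', P', hP', h2⟩ := hy
    refine ⟨e + e', P * P', hP.mul hP', ?_⟩
    rw [map_mul, map_mul, ← h1, ← h2]
    ring

/-- an element of the span of the `y_l / s_i ^ n_l` over `R[s_j / s_i]` -/
theorem exists_homog_span (s : ι → D) (i : ι) (u : D') (hu : u * algebraMap D D' (s i) = 1)
    (f : N →ₗ[D] N') {L : Type*} [Fintype L] (n : L → ℕ) (y : L → N) (Z : L → N')
    (hZ : ∀ l, algebraMap D D' (s i) ^ n l • Z l = f (y l)) (z : N')
    (hz : z ∈ Submodule.span (Algebra.adjoin R (Set.range fun j => algebraMap D D' (s j) * u)) (Set.range Z)) :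
    ∃ (E : ℕ) (d : L → ℕ) (P : L → MvPolynomial ι R), (∀ l, d l + n l = E) ∧ (∀ l, (P l).IsHomogeneous (d l)) ∧
      algebraMap D D' (s i) ^ E • z = f (∑ l, aeval s (P l) • y l) := by
  classical
  have hX : ∀ e : ℕ, (X i ^ e : MvPolynomial ι R).IsHomogeneous e := fun e => by
    simpa using (isHomogeneous_X R i).pow e
  have hXs : ∀ e : ℕ, algebraMap D D' (aeval s (X i ^ e : MvPolynomial ι R)) = algebraMap D D' (s i) ^ e := fun e => by
    rw [map_pow, aeval_X, map_pow]
  -- raising `E`
  have raise : ∀ (z : N') (E : ℕ) (d : L → ℕ) (P : L → MvPolynomial ι R), (∀ l, d l + n l = E) →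
      (∀ l, (P l).IsHomogeneous (d l)) → algebraMap D D' (s i) ^ E • z = f (∑ l, aeval s (P l) • y l) → ∀ k : ℕ,
      ∃ (d' : L → ℕ) (P' : L → MvPolynomial ι R), (∀ l, d' l + n l = E + k) ∧ (∀ l, (P' l).IsHomogeneous (d' l)) ∧
        algebraMap D D' (s i) ^ (E + k) • z = f (∑ l, aeval s (P' l) • y l) := by
    intro z E d P h1 h2 h3 k
    refine ⟨fun l => k + d l, fun l => X i ^ k * P l, fun l => by rw [← h1 l]; ring, fun l => (hX k).mul (h2 l), ?_⟩
    rw [pow_add, mul_comm, mul_smul, h3, ← map_pow, algebraMap_smul, ← map_smul, Finset.smul_sum]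
    congr 1
    refine Finset.sum_congr rfl fun l _ => ?_
    rw [map_mul, map_pow, aeval_X, mul_smul]
  induction hz using Submodule.span_induction with
  | mem x hx =>
    obtain ⟨a, rfl⟩ := hx
    refine ⟨∑ l, n l, fun l => (∑ l, n l) - n l, fun l => if l = a then X i ^ ((∑ l, n l) - n a) else 0, ?_, ?_, ?_⟩
    · intro l
      exact Nat.sub_add_cancel (Finset.single_le_sum (fun _ _ => Nat.zero_le _) (Finset.mem_univ l))
    · intro l
      by_cases h : l = a
      · subst h
        beta_reduce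
        rw [if_pos rfl]
        exact hX _
      · beta_reduce
        rw [if_neg h]
        exact isHomogeneous_zero _ _ _
    · have e1 : (∑ l, n l) = ((∑ l, n l) - n a) + n a :=
        (Nat.sub_add_cancel (Finset.single_le_sum (fun _ _ => Nat.zero_le _) (Finset.mem_univ a))).symm
      have e2 : ∑ l, aeval s ((fun l => if l = a then (X i ^ ((∑ l, n l) - n a) : MvPolynomial ι R) else 0) l) • y l =
          s i ^ ((∑ l, n l) - n a) • y a := by
        refine (Finset.sum_eq_single a (fun l _ h => ?_) (fun h => absurd (Finset.mem_univ _) h)).trans ?_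
        · beta_reduce
          rw [if_neg h, map_zero, zero_smul]
        · beta_reduce
          rw [if_pos rfl, map_pow, aeval_X]
      rw [e2, map_smul, ← hZ a, ← algebraMap_smul D' (s i ^ _), map_pow, ← mul_smul, ← pow_add, ← e1]
  | zero =>
    refine ⟨∑ l, n l, fun l => (∑ l, n l) - n l, fun l => 0, ?_, fun l => isHomogeneous_zero _ _ _, ?_⟩
    · intro l
      exact Nat.sub_add_cancel (Finset.single_le_sum (fun _ _ => Nat.zero_le _) (Finset.mem_univ l))
    · simp
  | add x x' _ _ hx hx' =>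
    obtain ⟨E, d, P, h1, h2, h3⟩ := hx
    obtain ⟨E', d', P', h1', h2', h3'⟩ := hx'
    obtain ⟨d₁, P₁, a1, a2, a3⟩ := raise x E d P h1 h2 h3 E'
    obtain ⟨d₂, P₂, b1, b2, b3⟩ := raise x' E' d' P' h1' h2' h3' E
    have hd : ∀ l, d₂ l = d₁ l := fun l => by have := a1 l; have := b1 l; omega
    refine ⟨E + E', d₁, fun l => P₁ l + P₂ l, a1, fun l => (a2 l).add (hd l ▸ b2 l), ?_⟩
    rw [smul_add, a3, show E + E' = E' + E by ring, b3, ← map_add, ← Finset.sum_add_distrib]
    congr 1
    refine Finset.sum_congr rfl fun l _ => ?_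
    rw [map_add, add_smul]
  | smul b x _ hx =>
    obtain ⟨E, d, P, h1, h2, h3⟩ := hx
    obtain ⟨e, P₀, k1, k2⟩ := exists_homog s i u hu (b : D') b.2
    refine ⟨e + E, fun l => e + d l, fun l => P₀ * P l, fun l => by rw [← h1 l]; ring, fun l => k1.mul (h2 l), ?_⟩
    have : algebraMap D D' (s i) ^ (e + E) • (b • x) = (algebraMap D D' (s i) ^ e * (b : D')) •
        (algebraMap D D' (s i) ^ E • x) := by
      change algebraMap D D' (s i) ^ (e + E) • ((b : D') • x) = _
      rw [← mul_smul, ← mul_smul]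
      congr 1
      ring
    rw [this, k2, h3, algebraMap_smul, ← map_smul, Finset.smul_sum]
    congr 1
    refine Finset.sum_congr rfl fun l _ => ?_
    rw [map_mul, mul_smul]

end One

/-- **T4.** -/
theorem T4 {R D N ι : Type*} [Finite ι] [CommRing R] [CommRing D] [Algebra R D] [AddCommGroup N] [Module R N] [Module D N]
    [IsScalarTower R D N] (s : ι → D) (V : ℤ → Submodule R N) (hV : ∀ i n, ∀ y ∈ V n, s i • y ∈ V (n + 1))
    (D' : ι → Type*) [∀ i, CommRing (D' i)] [∀ i, Algebra R (D' i)] [∀ i, Algebra D (D' i)]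
    [∀ i, IsScalarTower R D (D' i)] [∀ i, IsLocalization.Away (s i) (D' i)]
    (N' : ι → Type*) [∀ i, AddCommGroup (N' i)] [∀ i, Module D (N' i)] [∀ i, Module (D' i) (N' i)]
    [∀ i, IsScalarTower D (D' i) (N' i)] (f : ∀ i, N →ₗ[D] N' i)
    [∀ i, IsLocalizedModule (Submonoid.powers (s i)) (f i)]
    (hfin : ∀ i, ∃ Z : Set (N' i), Z.Finite ∧ (∀ z ∈ Z, ∃ (b : ℕ) (y : N), y ∈ V b ∧ s i ^ b • z = f i y) ∧
      ∀ (b : ℕ) (y : N), y ∈ V b → ∀ z : N' i, s i ^ b • z = f i y →
        z ∈ Submodule.span (Algebra.adjoin R (Set.range fun j => algebraMap D (D' i) (s j) *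
          IsLocalization.Away.invSelf (s i))) Z) :
    ∃ (t : ℕ) (n : Fin t → ℕ) (y : Fin t → N), (∀ l, y l ∈ V (n l)) ∧
      ∀ (i : ι) (m : ℤ), ∀ y' ∈ V m, ∃ (k : ℕ) (d : Fin t → ℕ) (P : Fin t → MvPolynomial ι R),
        (∀ l, (d l : ℤ) + n l = m + k) ∧ (∀ l, (P l).IsHomogeneous (d l)) ∧
        s i ^ k • y' = ∑ l, aeval s (P l) • y l := by
  classical
  have hVp : ∀ i (k : ℕ) n, ∀ y ∈ V n, s i ^ k • y ∈ V (n + k) := by
    intro i k
    induction k with
    | zero => intro n y hy; simpa using hy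
    | succ k ih =>
      intro n y hy
      rw [pow_succ', mul_smul]
      have := hV i _ _ (ih n y hy)
      rwa [add_assoc, ← Nat.cast_succ] at this
  choose Z hZf hZ1 hZ2 using hfin
  choose nn yy hyy hyy' using hZ1
  have : ∀ i, Fintype (Z i) := fun i => (hZf i).fintype
  have : Fintype ι := Fintype.ofFinite ι
  let L : Type _ := Σ i, Z i
  let eL : L ≃ Fin (Fintype.card L) := Fintype.equivFin L
  let N0 : L → ℕ := fun l => nn l.1 l.2.1 l.2.2
  let Y0 : L → N := fun l => yy l.1 l.2.1 l.2.2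
  -- the statement with `L` in place of `Fin t`
  suffices H : ∀ (i : ι) (m : ℤ), ∀ y' ∈ V m, ∃ (k : ℕ) (d : L → ℕ) (P : L → MvPolynomial ι R),
        (∀ l, (d l : ℤ) + N0 l = m + k) ∧ (∀ l, (P l).IsHomogeneous (d l)) ∧
        s i ^ k • y' = ∑ l, aeval s (P l) • Y0 l by
    refine ⟨Fintype.card L, fun l => N0 (eL.symm l), fun l => Y0 (eL.symm l), fun l => hyy _ _ _, ?_⟩
    intro i m y' hy'
    obtain ⟨k, d, P, h1, h2, h3⟩ := H i m y' hy'
    refine ⟨k, fun l => d (eL.symm l), fun l => P (eL.symm l), fun l => h1 _, fun l => h2 _, ?_⟩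
    rw [h3, ← eL.symm.sum_comp]
  intro i m y' hy'
  -- the element `y' / s_i ^ m`
  obtain ⟨a, b, hab⟩ : ∃ a b : ℕ, m + a = b := ⟨(-m).toNat, m.toNat, by omega⟩
  have hy'' : s i ^ a • y' ∈ V b := hab ▸ hVp i a m y' hy'
  let u : D' i := IsLocalization.Away.invSelf (s i)
  have hu : u * algebraMap D (D' i) (s i) = 1 := by rw [mul_comm]; exact IsLocalization.Away.mul_invSelf _
  have hun : ∀ k : ℕ, algebraMap D (D' i) (s i) ^ k * u ^ k = 1 := fun k => by
    rw [← mul_pow, mul_comm, hu, one_pow]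
  have hz1 : s i ^ b • (u ^ b • f i (s i ^ a • y')) = f i (s i ^ a • y') := by
    rw [← algebraMap_smul (D' i), map_pow, ← mul_smul, hun, one_smul]
  have hz2 := hZ2 i b _ hy'' _ hz1
  have hrange : Set.range (fun z : Z i => (z : N' i)) = Z i := Subtype.range_coe
  rw [← hrange] at hz2
  obtain ⟨E, d, P, h1, h2, h3⟩ := exists_homog_span (R := R) s i u hu (f i) (fun z : Z i => nn i z.1 z.2)
    (fun z : Z i => yy i z.1 z.2) (fun z : Z i => (z : N' i))
    (fun z => by rw [← map_pow, algebraMap_smul]; exact hyy' i z.1 z.2) _ hz2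
  -- clearing denominators
  have h4 : f i (s i ^ (E + a) • y') = f i (s i ^ b • ∑ z : Z i, aeval s (P z) • yy i z.1 z.2) := by
    rw [map_smul (f i) (s i ^ b), ← h3, ← algebraMap_smul (D' i) (s i ^ b), map_pow, ← mul_smul, ← mul_smul]
    rw [show algebraMap D (D' i) (s i) ^ b * algebraMap D (D' i) (s i) ^ E * u ^ b =
      (algebraMap D (D' i) (s i) ^ b * u ^ b) * algebraMap D (D' i) (s i) ^ E by ring, hun, one_mul, ← map_pow,
      algebraMap_smul, ← map_smul, ← mul_smul, pow_add]
  obtain ⟨⟨_, c, rfl⟩, hc⟩ := (IsLocalizedModule.eq_iff_exists (Submonoid.powers (s i)) (f i)).mp h4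
  have hc' : s i ^ c • (s i ^ (E + a) • y') = s i ^ c • (s i ^ b • ∑ z : Z i, aeval s (P z) • yy i z.1 z.2) := hc
  let K : ℕ := ∑ l, N0 l
  have hK : ∀ l : L, N0 l ≤ K := fun l => Finset.single_le_sum (fun _ _ => Nat.zero_le _) (Finset.mem_univ l)
  let k : ℕ := K + c + (E + a)
  have hk : m + (k : ℤ) = (K + c + E + b : ℕ) := by
    simp only [k]
    push_cast
    omega
  let dd : L → ℕ := fun l => K + c + E + b - N0 l
  have hdd : ∀ l, dd l + N0 l = K + c + E + b := fun l => Nat.sub_add_cancel (by have := hK l; omega)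
  let PP : L → MvPolynomial ι R := fun l =>
    if h : l.1 = i then X i ^ (K + c + b) * P (h ▸ l.2) else 0
  refine ⟨k, dd, PP, fun l => ?_, fun l => ?_, ?_⟩
  · rw [hk, ← hdd l]; push_cast; ring
  · obtain ⟨i', z⟩ := l
    by_cases h : i' = i
    · subst h
      have hPP : PP ⟨i', z⟩ = X i' ^ (K + c + b) * P z := dif_pos rfl
      rw [hPP]
      have hX : (X i' ^ (K + c + b) : MvPolynomial ι R).IsHomogeneous (K + c + b) := by
        simpa using (isHomogeneous_X R i').pow (K + c + b)
      have := hX.mul (h2 z)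
      have e : dd ⟨i', z⟩ = K + c + b + d z := by
        have e1 := hdd ⟨i', z⟩
        have e2 := h1 z
        simp only [N0] at e1
        omega
      rw [e]
      exact this
    · have hPP : PP ⟨i', z⟩ = 0 := dif_neg h
      rw [hPP]
      exact isHomogeneous_zero _ _ _
  · have hsum : ∑ l, aeval s (PP l) • Y0 l = ∑ z : Z i, aeval s (PP ⟨i, z⟩) • Y0 ⟨i, z⟩ := by
      rw [Fintype.sum_sigma]
      refine Finset.sum_eq_single i (fun i' _ h => ?_) (fun h => absurd (Finset.mem_univ _) h)
      refine Finset.sum_eq_zero fun z _ => ?_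
      have hPP : PP ⟨i', z⟩ = 0 := dif_neg h
      rw [hPP, map_zero, zero_smul]
    rw [hsum]
    have e1 : s i ^ k • y' = s i ^ K • (s i ^ c • (s i ^ (E + a) • y')) := by
      rw [← mul_smul, ← mul_smul]
      congr 1
      simp only [k]
      ring
    rw [e1, hc', ← mul_smul, ← mul_smul, Finset.smul_sum]
    refine Finset.sum_congr rfl fun z _ => ?_
    have hPP : PP ⟨i, z⟩ = X i ^ (K + c + b) * P z := dif_pos rfl
    rw [hPP, map_mul, map_pow, aeval_X, ← mul_smul]
    congr 1
    ring

end Groth.Agent.ResProp.EF.K860
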