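import Groth.Agent.ResProp.EF.K860.T4
import Groth.Agent.ResProp.EF.K83.FinDatum
import Mathlib.RingTheory.Localization.BaseChange

/-!
# T4b (FIN): `T4` in the language of `K83.FinDatum`

`LocHM L N`: the localisation of a Hopf module at a semi-invariant `s`, as a Hopf module over `D_s` (T3).
`coinv_iff`: the coinvariants of `N_s` are the `y / s ^ b`, `y` semi-invariant of weight `χ ^ b`.
`T4b`: finitely many semi-invariants generate all of them up to powers of each `s_i`, from T2.
-/

set_option autoImplicit false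

universe u

open TensorProduct MvPolynomial

namespace Groth.Agent.ResProp.EF.K860

open Groth.Agent.ResProp.EF.K83

variable {R : Type u} [CommRing R] {A : Type u} [CommRing A] [HopfAlgebra R A]
  {D : Type u} [CommRing D] [Algebra R D] {c : CoAlg R A D}

section Act

variable {N : Type u} [AddCommGroup N] [Module R N] [Module D N] [IsScalarTower R D N]
  {co : HopfRep.Comod R A N}

/-- the action of `s ⊗ χ` on `N ⊗ A` -/
noncomputable def act (N : Type u) [AddCommGroup N] [Module R N] [Module D N] [IsScalarTower R D N]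
    (s : D) (χ : A) : N ⊗[R] A →ₗ[R] N ⊗[R] A :=
  TensorProduct.map (Algebra.lsmul R R N s) (LinearMap.mulLeft R χ)

@[simp] theorem act_tmul (s : D) (χ : A) (n : N) (a : A) : act N s χ (n ⊗ₜ[R] a) = (s • n) ⊗ₜ[R] (χ * a) := rfl

theorem act_act (s t : D) (χ ψ : A) (x : N ⊗[R] A) : act N s χ (act N t ψ x) = act N (s * t) (χ * ψ) x := by
  induction x with
  | zero => simp
  | tmul n a => simp [mul_smul, mul_assoc]
  | add x y hx hy => simp only [map_add, hx, hy]

theorem act_one (x : N ⊗[R] A) : act N (1 : D) (1 : A) x = x := by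
  induction x with
  | zero => simp
  | tmul n a => simp
  | add x y hx hy => simp only [map_add, hx, hy]

theorem coact_smul (hN : IsHopfMod c N co) {s : D} {χ : A} (hs : c.ρ s = s ⊗ₜ χ) (n : N) :
    co.coact (s • n) = act N s χ (co.coact n) := by
  rw [hN.smul, hs]
  rfl

theorem coact_pow_smul (hN : IsHopfMod c N co) {s : D} {χ : A} (hs : c.ρ s = s ⊗ₜ χ) (k : ℕ) (n : N) :
    co.coact (s ^ k • n) = act N (s ^ k) (χ ^ k) (co.coact n) := by
  refine coact_smul hN ?_ n
  rw [map_pow, hs, Algebra.TensorProduct.tmul_pow]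

end Act

/-- the localisation of a Hopf module at `s` as a Hopf module over `D_s` -/
structure LocHM {s : D} (L : GalLoc c s) (N : Type u) [AddCommGroup N] [Module R N] [Module D N] [IsScalarTower R D N]
    (co : HopfRep.Comod R A N) : Type (u + 1) where
  M : Type u
  [acM : AddCommGroup M]
  [mR : Module R M]
  [mD : Module D M]
  [mDs : Module L.Ds M]
  [tR : IsScalarTower R D M]
  [tRs : IsScalarTower R L.Ds M]
  [tDs : IsScalarTower D L.Ds M]
  f : N →ₗ[D] M
  [loc : IsLocalizedModule (Submonoid.powers s) f]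
  com : HopfRep.Comod R A M
  hM : IsHopfMod L.cs M com
  colin : ∀ x : N, com.coact (f x) = (f.restrictScalars R).rTensor A (co.coact x)

attribute [instance] LocHM.acM LocHM.mR LocHM.mD LocHM.mDs LocHM.tR LocHM.tRs LocHM.tDs LocHM.loc

section Coinv

variable {N : Type u} [AddCommGroup N] [Module R N] [Module D N] [IsScalarTower R D N]
  {co : HopfRep.Comod R A N} {s : D} {L : GalLoc c s}

theorem LocHM.coact_smul (P : LocHM L N co) {χ : A} (hs : c.ρ s = s ⊗ₜ χ) (k : ℕ) (z : P.M) :
    P.com.coact (s ^ k • z) = act P.M (s ^ k) (χ ^ k) (P.com.coact z) := by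
  have h1 : L.cs.ρ (algebraMap D L.Ds s) = algebraMap D L.Ds s ⊗ₜ χ := by
    rw [L.compat, hs]
    simp
  have h2 := coact_pow_smul P.hM h1 k z
  rw [← map_pow, algebraMap_smul] at h2
  rw [h2]
  generalize P.com.coact z = x
  induction x with
  | zero => simp
  | tmul n a => rw [act_tmul, act_tmul, algebraMap_smul]
  | add x y hx hy => simp only [map_add, hx, hy]

/-- coinvariants of the localisation come from semi-invariants -/
theorem LocHM.exists_of_coinv (P : LocHM L N co) (hN : IsHopfMod c N co) {χ : A} (hs : c.ρ s = s ⊗ₜ χ) (z : P.M)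
    (hz : P.com.coact z = z ⊗ₜ (1 : A)) :
    ∃ (b : ℕ) (y : N), co.coact y = y ⊗ₜ (χ ^ b) ∧ s ^ b • z = P.f y := by
  obtain ⟨⟨x, ⟨_, a, rfl⟩⟩, hx⟩ := IsLocalizedModule.surj (Submonoid.powers s) P.f z
  have hx' : s ^ a • z = P.f x := hx
  have h1 : P.com.coact (P.f x) = P.f x ⊗ₜ (χ ^ a) := by
    rw [← hx', P.coact_smul hs, hz, act_tmul, mul_one]
  rw [P.colin] at h1
  have h2 : AlgebraTensorModule.rTensor R A P.f (co.coact x) = AlgebraTensorModule.rTensor R A P.f (x ⊗ₜ (χ ^ a)) := h1
  obtain ⟨⟨_, e, rfl⟩, he⟩ := (IsLocalizedModule.eq_iff_exists (Submonoid.powers s)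
    (AlgebraTensorModule.rTensor R A P.f)).mp h2
  have he' : s ^ e • co.coact x = s ^ e • (x ⊗ₜ[R] (χ ^ a)) := he
  have key : ∀ w : N ⊗[R] A, act N (s ^ e) (χ ^ e) w = act N (1 : D) (χ ^ e) (s ^ e • w) := by
    intro w
    induction w with
    | zero => simp
    | tmul n a => simp [TensorProduct.smul_tmul']
    | add x y hx hy => simp only [map_add, smul_add, hx, hy]
  refine ⟨e + a, s ^ e • x, ?_, ?_⟩
  · rw [coact_pow_smul hN hs, key, he', ← key, act_tmul, ← pow_add]
  · rw [pow_add, mul_smul, hx', map_smul]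

/-- semi-invariants give coinvariants of the localisation -/
theorem LocHM.coinv_of (P : LocHM L N co) {χ : A} (hχ : IsGroupLikeElem R χ) (hs : c.ρ s = s ⊗ₜ χ) (b : ℕ) (y : N)
    (hy : co.coact y = y ⊗ₜ (χ ^ b)) (z : P.M) (hz : s ^ b • z = P.f y) : P.com.coact z = z ⊗ₜ (1 : A) := by
  have h1 : act P.M (s ^ b) (χ ^ b) (P.com.coact z) = act P.M (s ^ b) (χ ^ b) (z ⊗ₜ (1 : A)) := by
    rw [← P.coact_smul hs, hz, P.colin, hy, act_tmul, hz, mul_one]
    rfl
  -- `act (s ^ b) (χ ^ b)` is injective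
  obtain ⟨ψ, hψ⟩ : ∃ ψ : A, ψ * χ = 1 := ⟨HopfAlgebra.antipode R χ, by
    have := HopfAlgebra.mul_antipode_rTensor_comul_apply (R := R) χ
    rw [hχ.comul_eq_tmul_self, hχ.counit_eq_one] at this
    simpa using this⟩
  let v : L.Ds := IsLocalization.Away.invSelf s
  have hv : v * algebraMap D L.Ds s = 1 := by rw [mul_comm]; exact IsLocalization.Away.mul_invSelf _
  have key : ∀ w : P.M ⊗[R] A, act P.M (v ^ b) (ψ ^ b) (act P.M (s ^ b) (χ ^ b) w) = w := by
    intro w
    have h2 : act P.M (s ^ b) (χ ^ b) w = act P.M (algebraMap D L.Ds s ^ b) (χ ^ b) w := by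
      induction w with
      | zero => simp
      | tmul n a => rw [act_tmul, act_tmul, ← map_pow, algebraMap_smul]
      | add x y hx hy => simp only [map_add, hx, hy]
    rw [h2, act_act, ← mul_pow, ← mul_pow, hv, hψ, one_pow, one_pow, act_one]
  rw [← key (P.com.coact z), h1, key]

end Coinv

/-- **T4b.** `hT2` is the output of T2 for the localisations `N_(s_i)`. -/
theorem T4b (F : FinDatum R A D c) (N : Type u) [AddCommGroup N] [Module R N] [Module D N] [IsScalarTower R D N]
    (co : HopfRep.Comod R A N) (hN : IsHopfMod c N co) (P : ∀ i, LocHM (F.loc i) N co)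
    (hT2 : ∀ i, ∃ Z : Set (P i).M, Z.Finite ∧ (∀ z ∈ Z, (P i).com.coact z = z ⊗ₜ (1 : A)) ∧
      ∀ z : (P i).M, (P i).com.coact z = z ⊗ₜ (1 : A) →
        z ∈ Submodule.span (algebraMap (F.loc i).B (F.loc i).Ds).range Z) :
    ∃ (t : ℕ) (n : Fin t → ℕ) (y : Fin t → N), (∀ l, co.coact (y l) = y l ⊗ₜ (F.χ ^ n l)) ∧
      ∀ (i : Fin (F.r + 1)) (m : ℕ) (y' : N), co.coact y' = y' ⊗ₜ (F.χ ^ m) →
        ∃ (k : ℕ) (d : Fin t → ℕ) (Q : Fin t → MvPolynomial (Fin (F.r + 1)) R),
          (∀ l, d l + n l = m + k) ∧ (∀ l, (Q l).IsHomogeneous (d l)) ∧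
          F.s i ^ k • y' = ∑ l, aeval F.s (Q l) • y l := by
  classical
  let V : ℤ → Submodule R N := fun n => if 0 ≤ n then
    LinearMap.ker (co.coact - (TensorProduct.mk R N A).flip (F.χ ^ n.toNat)) else ⊥
  have hVn : ∀ (n : ℕ) (y : N), y ∈ V n ↔ co.coact y = y ⊗ₜ (F.χ ^ n) := by
    intro n y
    have : V n = LinearMap.ker (co.coact - (TensorProduct.mk R N A).flip (F.χ ^ n)) := by
      simp only [V]
      rw [if_pos (Int.natCast_nonneg n), Int.toNat_natCast]
    rw [this, LinearMap.mem_ker, LinearMap.sub_apply, sub_eq_zero]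
    rfl
  have hV : ∀ i n, ∀ y ∈ V n, F.s i • y ∈ V (n + 1) := by
    intro i n y hy
    by_cases h : 0 ≤ n
    · obtain ⟨m, rfl⟩ := Int.eq_ofNat_of_zero_le h
      have hy' := (hVn m y).mp hy
      have : ((m : ℤ) + 1) = ((m + 1 : ℕ) : ℤ) := by push_cast; rfl
      rw [show ((m : ℕ) : ℤ) + 1 = ((m + 1 : ℕ) : ℤ) by push_cast; rfl]
      rw [hVn, coact_smul hN (F.hs i), hy', act_tmul, pow_succ']
    · have : V n = ⊥ := if_neg h
      rw [this, Submodule.mem_bot] at hy
      rw [hy, smul_zero]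
      exact Submodule.zero_mem _
  obtain ⟨t, n, y, h1, h2⟩ := T4 (R := R) F.s V hV (fun i => (F.loc i).Ds) (fun i => (P i).M) (fun i => (P i).f) (by
    intro i
    obtain ⟨Z, hZ1, hZ2, hZ3⟩ := hT2 i
    refine ⟨Z, hZ1, fun z hz => ?_, fun b y hy z hz => ?_⟩
    · obtain ⟨b, y, hy, hzy⟩ := (P i).exists_of_coinv hN (F.hs i) z (hZ2 z hz)
      exact ⟨b, y, (hVn b y).mpr hy, hzy⟩
    · have h3 := hZ3 z ((P i).coinv_of F.hχ (F.hs i) b y ((hVn b y).mp hy) z hz)
      -- the two spans
      have hB : ∀ b : (F.loc i).B, algebraMap (F.loc i).B (F.loc i).Ds b ∈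
          Algebra.adjoin R (Set.range fun j => algebraMap D (F.loc i).Ds (F.s j) *
            IsLocalization.Away.invSelf (F.s i)) := by
        intro b
        induction F.gen i b using Algebra.adjoin_induction with
        | mem x hx =>
          obtain ⟨j, hj⟩ := hx
          refine Algebra.subset_adjoin ⟨j, ?_⟩
          beta_reduce
          rw [← hj, mul_assoc, IsLocalization.Away.mul_invSelf, mul_one]
        | algebraMap r =>
          rw [← IsScalarTower.algebraMap_apply]
          exact Subalgebra.algebraMap_mem _ r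
        | add x y _ _ hx hy => rw [map_add]; exact Subalgebra.add_mem _ hx hy
        | mul x y _ _ hx hy => rw [map_mul]; exact Subalgebra.mul_mem _ hx hy
      clear hz
      induction h3 using Submodule.span_induction with
      | mem x hx => exact Submodule.subset_span hx
      | zero => exact Submodule.zero_mem _
      | add x y _ _ hx hy => exact Submodule.add_mem _ hx hy
      | smul b x _ hx =>
        obtain ⟨b', hb'⟩ := b.2
        have := Submodule.smul_mem _ (⟨algebraMap (F.loc i).B (F.loc i).Ds b', hB b'⟩ :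
          Algebra.adjoin R (Set.range fun j => algebraMap D (F.loc i).Ds (F.s j) *
            IsLocalization.Away.invSelf (F.s i))) hx
        change ((b : (F.loc i).Ds)) • x ∈ _
        rw [← hb']
        exact this)
  refine ⟨t, n, y, fun l => (hVn _ _).mp (h1 l), fun i m y' hy' => ?_⟩
  obtain ⟨k, d, Q, h3, h4, h5⟩ := h2 i m y' ((hVn _ _).mpr hy')
  exact ⟨k, d, Q, fun l => by have := h3 l; omega, h4, h5⟩

end Groth.Agent.ResProp.EF.K860
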