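import Groth.Agent.ResProp.EF.K860.T4c
import Groth.Agent.ResProp.EF.K83.Nodes

/-!
# `StmtT4` of `K83.Nodes`
-/

set_option autoImplicit false

universe u

namespace Groth.Agent.ResProp.EF.K860

theorem stmtT4 : Groth.Agent.ResProp.EF.K83.StmtT4.{u} := by
  intro R _ A _ _ _ D _ _ c F N _ _ _ _ co hN hfin
  exact T4c F N co hN

end Groth.Agent.ResProp.EF.K860
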